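import Groth.Agent.QCoh.Tilde
import Groth.Agent.QCoh.Pullback
import Mathlib.CategoryTheory.Limits.ConcreteCategory.Basic
import Mathlib.Algebra.Category.ModuleCat.FilteredColimits

/-!
# Sections over affine opens of filtered colimits of quasi-coherent modules
-/

set_option autoImplicit false
set_option linter.style.haveILetI false
set_option backward.isDefEq.respectTransparency false
set_option backward.isDefEq.respectTransparency.types false

universe u

open CategoryTheory CategoryTheory.Limits AlgebraicGeometry TopologicalSpace Opposite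

namespace Groth.Agent.QCohCompact

open Groth.Agent.QCoh

variable {J : Type u} [SmallCategory J]

/-- Global sections of a colimit of quasi-coherent modules on an affine scheme. -/
theorem nonempty_isColimit_Γ {R : CommRingCat.{u}} {D : J ⥤ (Spec R).Modules} (c : Cocone D) (hc : IsColimit c)
    (hD : ∀ k, Coh.IsQCoh (D.obj k)) (hP : Coh.IsQCoh c.pt) :
    Nonempty (IsColimit ((moduleSpecΓFunctor (R := R)).mapCocone c)) := by
  haveI : ∀ k, IsIso (Scheme.Modules.fromTildeΓ (D.obj k)) := fun k =>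
    (isQuasicoherent_iff_isIso_fromTildeΓ _).1 (hD k)
  haveI : IsIso (Scheme.Modules.fromTildeΓ c.pt) := (isQuasicoherent_iff_isIso_fromTildeΓ _).1 hP
  let α : (D ⋙ moduleSpecΓFunctor (R := R)) ⋙ tilde.functor R ≅ D :=
    NatIso.ofComponents (fun k => asIso (Scheme.Modules.fromTildeΓ (D.obj k)))
      fun f => Scheme.Modules.fromTildeΓNatTrans.naturality (D.map f)
  refine ⟨isColimitOfReflects (tilde.functor R) ?_⟩
  refine IsColimit.ofIsoColimit ((IsColimit.precomposeHomEquiv α c).symm hc) ?_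
  refine Cocone.ext (asIso (Scheme.Modules.fromTildeΓ c.pt)).symm fun k => ?_
  show (Scheme.Modules.fromTildeΓ (D.obj k) ≫ c.ι.app k) ≫ inv (Scheme.Modules.fromTildeΓ c.pt) = _
  rw [IsIso.comp_inv_eq]
  exact (Scheme.Modules.fromTildeΓNatTrans.naturality (c.ι.app k)).symm

variable {X : Scheme.{u}} [IsFiltered J] {D : J ⥤ X.Modules} (c : Cocone D) (hc : IsColimit c)
  (hD : ∀ k, Coh.IsQCoh (D.obj k)) (hP : Coh.IsQCoh c.pt) {U : X.Opens} (hU : IsAffineOpen U)

include hc hD hP hU

/-- Sections over an affine open of a filtered colimit come from a stage. -/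
theorem exists_rep (y : Γ(c.pt, U)) : ∃ (k : J) (x : Γ(D.obj k, U)), (c.ι.app k).app U x = y := by
  obtain ⟨hΓ⟩ := nonempty_isColimit_Γ ((Scheme.Modules.restrictFunctor hU.fromSpec).mapCocone c)
    (isColimitOfPreserves _ hc) (fun k => isQCoh_restrict _ (hD k)) (isQCoh_restrict _ hP)
  have htop : hU.fromSpec ''ᵁ ⊤ = U :=
    (Scheme.Hom.image_top_eq_opensRange _).trans hU.opensRange_fromSpec
  have key : ∀ (O : X.Opens), hU.fromSpec ''ᵁ ⊤ = O → ∀ y : Γ(c.pt, O),
      ∃ (k : J) (x : Γ(D.obj k, O)), (c.ι.app k).app O x = y := by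
    rintro O rfl y
    obtain ⟨k, x, hx⟩ := Concrete.isColimit_exists_rep _ hΓ y
    exact ⟨k, x, hx⟩
  exact key U htop y

/-- Sections over an affine open vanishing in the colimit vanish at a stage. -/
theorem exists_zero {k : J} (x : Γ(D.obj k, U)) (hx : (c.ι.app k).app U x = 0) :
    ∃ (l : J) (f : k ⟶ l), (D.map f).app U x = 0 := by
  obtain ⟨hΓ⟩ := nonempty_isColimit_Γ ((Scheme.Modules.restrictFunctor hU.fromSpec).mapCocone c)
    (isColimitOfPreserves _ hc) (fun k => isQCoh_restrict _ (hD k)) (isQCoh_restrict _ hP)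
  have htop : hU.fromSpec ''ᵁ ⊤ = U :=
    (Scheme.Hom.image_top_eq_opensRange _).trans hU.opensRange_fromSpec
  have key : ∀ (O : X.Opens), hU.fromSpec ''ᵁ ⊤ = O → ∀ x : Γ(D.obj k, O), (c.ι.app k).app O x = 0 →
      ∃ (l : J) (f : k ⟶ l), (D.map f).app O x = 0 := by
    rintro O rfl x hx
    obtain ⟨l, f, g, h⟩ := (Concrete.isColimit_rep_eq_iff_exists _ hΓ (i := k) (j := k) x
      (0 : Γ(D.obj k, hU.fromSpec ''ᵁ ⊤))).1 (by exact hx.trans (map_zero _).symm)
    exact ⟨l, f, h.trans (map_zero _)⟩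
  exact key U htop x hx

end Groth.Agent.QCohCompact
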