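import Groth.Agent.QCohCompact.Main

/-!
# Finite type modules as directed colimits of finitely presented ones with surjective transition maps
-/

set_option autoImplicit false
set_option linter.style.haveILetI false
set_option backward.isDefEq.respectTransparency false
set_option backward.isDefEq.respectTransparency.types false

universe u

open CategoryTheory CategoryTheory.Limits AlgebraicGeometry TopologicalSpace Opposite

namespace Groth.Agent.QCohCompact

open Groth.Agent.QCoh Groth.Agent.RGLib.Lim8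

variable {X : Scheme.{u}} [CompactSpace X] [QuasiSeparatedSpace X]

/-- A module of finite type is a quotient of a module of finite presentation. -/
theorem exists_fp_epi_of_isFT {F : X.Modules} (hF : Coh.IsQCoh F) (hft : CohB1.IsFT F) :
    ∃ (E : X.Modules) (p : E ⟶ F), Coh.IsQCoh E ∧ CohB1.IsFP E ∧ Epi p := by
  classical
  obtain ⟨I, _, _, D, c, hc, hfp, rfl⟩ := RGLib.FPColimit.exists_fp_colimit X F hF
  have hq : ∀ i, Coh.IsQCoh (D.obj i) := fun i => by
    haveI := hfp i
    exact (inferInstance : SheafOfModules.IsQuasicoherent (R := X.ringCatSheaf) (D.obj i))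
  obtain ⟨n, U, hU, hcov⟩ := exists_cover (X := X)
  have hgen : ∀ a : n, ∃ S : Finset Γ(c.pt, U a.1), Submodule.span Γ(X, U a.1) (S : Set Γ(c.pt, U a.1)) = ⊤ :=
    fun a => (finite_of_isFT hF hft (hU a.1)).fg_top
  choose S hS using hgen
  have hrep : ∀ p : Σ a : n, ↥(S a), ∃ (k : I) (x : Γ(D.obj k, U p.1.1)),
      (c.ι.app k).app (U p.1.1) x = p.2.1 :=
    fun p => exists_rep c hc hq hF (hU p.1.1) _
  choose k₀ x hx using hrep
  obtain ⟨k, hk⟩ := IsFiltered.sup_objs_exists (Finset.univ.image k₀)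
  have hto : ∀ p, Nonempty (k₀ p ⟶ k) := fun p => hk (Finset.mem_image_of_mem _ (Finset.mem_univ p))
  let π : D.obj k ⟶ c.pt := c.ι.app k
  refine ⟨D.obj k, π, hq k, hfp k, RGLib.FPCover.epi_of_surjective_cover (hq k) hF π
    (fun a : ULift.{u} n => U a.down.1) (fun a => hU a.down.1)
    (fun y => let ⟨a, ha⟩ := hcov y; ⟨⟨a⟩, ha⟩) fun a => ?_⟩
  have hr : ⊤ ≤ LinearMap.range (QCoh.appLin π (U a.down.1)) := by
    rw [← hS a.down, Submodule.span_le]
    intro v hv
    refine ⟨(D.map (hto ⟨a.down, v, hv⟩).some).app _ (x ⟨a.down, v, hv⟩), ?_⟩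
    refine Eq.trans ?_ (hx ⟨a.down, v, hv⟩)
    exact congrArg (fun q : _ ⟶ c.pt => q.app (U a.down.1) (x ⟨a.down, v, hv⟩)) (c.w (hto ⟨a.down, v, hv⟩).some)
  exact fun y => hr (Submodule.mem_top (x := y))

/-- Submodules of finite type, ordered by inclusion. -/
structure Rel (K : X.Modules) : Type u where
  /-- the submodule -/
  sub : SubMod K
  ft : FTOn sub ⊤

omit [CompactSpace X] [QuasiSeparatedSpace X] in
theorem Rel.ext' {K : X.Modules} {a b : Rel K} (h : ∀ O, a.sub.mem O = b.sub.mem O) : a = b := by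
  obtain ⟨⟨ma, _, _⟩, _⟩ := a
  obtain ⟨⟨mb, _, _⟩, _⟩ := b
  obtain rfl : ma = mb := funext h
  rfl

instance {K : X.Modules} : PartialOrder (Rel K) where
  le a b := ∀ O, a.sub.mem O ≤ b.sub.mem O
  le_refl _ _ := le_rfl
  le_trans _ _ _ h h' O := (h O).trans (h' O)
  le_antisymm _ _ h h' := Rel.ext' fun O => le_antisymm (h O) (h' O)

theorem exists_dirColim (F : X.Modules) (hF : Coh.IsQCoh F) (hft : CohB1.IsFT F) :
    ∃ (J : Type u) (_ : PartialOrder J) (_ : IsDirected J (· ≤ ·)) (_ : Nonempty J) (D : J ⥤ X.Modules)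
      (ι : D ⟶ (Functor.const J).obj F), Nonempty (IsColimit (Cocone.mk F ι)) ∧
      (∀ j, CohB1.IsFP (D.obj j)) ∧ ∀ (j j' : J) (h : j ⟶ j'), Epi (D.map h) := by
  obtain ⟨E, p, hE, hEfp, hp⟩ := exists_fp_epi_of_isFT hF hft
  let K := kernel p
  have hK : Coh.IsQCoh K := isQCoh_kernel hE hF p
  let rel : ∀ N : Rel K, N.sub.toModules ⟶ E := fun N => N.sub.ι ≫ kernel.ι p
  have hdesc : ∀ {a b : Rel K} (h : a ≤ b), rel a ≫ cokernel.π (rel b) = 0 := fun {a b} h => by
    have h1 : rel a = QcqsColim.incl h ≫ rel b := by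
      simp only [rel, ← Category.assoc, QcqsColim.incl_ι]
    rw [h1, Category.assoc, cokernel.condition, comp_zero]
  let D : Rel K ⥤ X.Modules :=
    { obj := fun N => cokernel (rel N)
      map := fun {a b} h => cokernel.desc (rel a) (cokernel.π (rel b)) (hdesc (leOfHom h))
      map_id := fun a => coequalizer.hom_ext ((cokernel.π_desc _ _ _).trans (Category.comp_id _).symm)
      map_comp := fun {a b c} f g => coequalizer.hom_ext (by
        rw [cokernel.π_desc, cokernel.π_desc_assoc, cokernel.π_desc]) }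
  let ι : D ⟶ (Functor.const (Rel K)).obj F :=
    { app := fun N => cokernel.desc (rel N) p (by rw [Category.assoc, kernel.condition, comp_zero])
      naturality := fun a b h => coequalizer.hom_ext (by
        show cokernel.π (rel a) ≫ cokernel.desc (rel a) (cokernel.π (rel b)) (hdesc (leOfHom h)) ≫
          cokernel.desc (rel b) p _ = cokernel.π (rel a) ≫ cokernel.desc (rel a) p _ ≫ 𝟙 F
        rw [cokernel.π_desc_assoc, cokernel.π_desc, Category.comp_id, cokernel.π_desc]) }
  have hne : Nonempty (Rel K) :=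
    ⟨⟨(Classical.arbitrary (QcqsColim.FTIndex K)).1, (Classical.arbitrary (QcqsColim.FTIndex K)).2⟩⟩
  have hdir : IsDirected (Rel K) (· ≤ ·) :=
    ⟨fun a b => ⟨⟨QcqsColim.supSub a.sub b.sub, QcqsColim.ftOn_supSub a.ft b.ft⟩,
      fun O _ hs => QcqsColim.mem_supSub_left _ _ O hs, fun O _ hs => QcqsColim.mem_supSub_right _ _ O hs⟩⟩
  refine ⟨Rel K, inferInstance, hdir, hne, D, ι, ⟨?_⟩,
    fun N => isFP_cokernel (rel N) (isQCoh_of_ftOn hK N.ft) (isFT_of_ftOn hK N.ft) hE hEfp,
    fun a b h => ?_⟩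
  · have key : ∀ (s : Cocone D) (a b : Rel K),
        cokernel.π (rel a) ≫ s.ι.app a = cokernel.π (rel b) ≫ s.ι.app b := fun s a b => by
      obtain ⟨c, hac, hbc⟩ := exists_ge_ge a b
      rw [← s.w (homOfLE hac), ← s.w (homOfLE hbc)]
      show cokernel.π (rel a) ≫ cokernel.desc (rel a) _ _ ≫ _ = cokernel.π (rel b) ≫ cokernel.desc (rel b) _ _ ≫ _
      rw [cokernel.π_desc_assoc, cokernel.π_desc_assoc]
    have hzero : ∀ s : Cocone D, kernel.ι p ≫ cokernel.π (rel hne.some) ≫ s.ι.app hne.some = 0 := fun s => by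
      refine hom_eq_zero_of_cover hK _ (fun V : X.affineOpens => V.1) (fun V => V.2)
        (fun y => let ⟨_, ⟨V, hV, rfl⟩, hy, _⟩ :=
          X.isBasis_affineOpens.exists_subset_of_mem_open (Set.mem_univ y) isOpen_univ
          ⟨⟨V, hV⟩, hy⟩) fun V z => ?_
      obtain ⟨N, hN, hmem⟩ := exists_ftOn_contains hK V.2 (extStep_qcqs V.2.isCompact) {z} (Set.finite_singleton _)
      obtain ⟨w, hw⟩ := N.exists_app_eq (hmem rfl)
      rw [key s hne.some ⟨N, hN⟩, ← hw]
      have h0 : N.ι ≫ kernel.ι p ≫ cokernel.π (rel ⟨N, hN⟩) ≫ s.ι.app ⟨N, hN⟩ = 0 := by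
        rw [← Category.assoc, ← Category.assoc]
        show (rel ⟨N, hN⟩ ≫ cokernel.π (rel ⟨N, hN⟩)) ≫ _ = 0
        rw [cokernel.condition, zero_comp]
      exact congrArg (fun q : N.toModules ⟶ s.pt => q.app V.1 w) h0
    exact
      { desc := fun s => (ShortComplex.exact_kernel p).desc (cokernel.π (rel hne.some) ≫ s.ι.app hne.some) (hzero s)
        fac := fun s N => by
          apply coequalizer.hom_ext
          show cokernel.π (rel N) ≫ cokernel.desc (rel N) p _ ≫ _ = cokernel.π (rel N) ≫ _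
          rw [cokernel.π_desc_assoc, key s N hne.some]
          exact (ShortComplex.exact_kernel p).g_desc _ _
        uniq := fun s m hm => by
          apply (cancel_epi p).1
          refine Eq.trans ?_ ((ShortComplex.exact_kernel p).g_desc _ _).symm
          rw [← hm hne.some]
          show _ = cokernel.π (rel hne.some) ≫ cokernel.desc (rel hne.some) p _ ≫ m
          rw [cokernel.π_desc_assoc] }
  · haveI : Epi (cokernel.π (rel a) ≫ cokernel.desc (rel a) (cokernel.π (rel b)) (hdesc (leOfHom h))) := by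
      rw [cokernel.π_desc]; infer_instance
    exact epi_of_epi (cokernel.π (rel a)) _

end Groth.Agent.QCohCompact
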