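import Groth.Agent.QCohCompact.Colim
import Groth.Agent.RGLib.FPCover
import Groth.Agent.RGLib.Lim8Quot
import Groth.Agent.RGLib.Lim8Zero
import Groth.Agent.RGLib.SqZeroHom
import Groth.Agent.RGLib.FPExtend
import Groth.Agent.RGLib.FPColimit
import Groth.Prelude.Def_QCohCat
import Mathlib.CategoryTheory.Presentable.Finite

/-!
# Compact objects of the category of quasi-coherent modules
-/

set_option autoImplicit false
set_option linter.style.haveILetI false
set_option backward.isDefEq.respectTransparency false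
set_option backward.isDefEq.respectTransparency.types false

universe u

open CategoryTheory CategoryTheory.Limits AlgebraicGeometry TopologicalSpace Opposite

namespace Groth.Agent.QCohCompact

open Groth.Agent.QCoh Groth.Agent.RGLib.Lim8

/-- Finitely many arrows out of an object merge. -/
theorem exists_merge {J : Type*} [Category J] [IsFiltered J] {k : J} {ι : Type*} (s : Finset ι)
    (l : ι → J) (f : ∀ i, k ⟶ l i) :
    ∃ (m : J) (g : k ⟶ m), ∀ i ∈ s, ∃ h : l i ⟶ m, f i ≫ h = g := by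
  classical
  induction s using Finset.induction with
  | empty => exact ⟨k, 𝟙 k, by simp⟩
  | insert i s _ ih =>
    obtain ⟨m, g, hg⟩ := ih
    obtain ⟨m', a, b, hab⟩ := IsFiltered.span (f i) g
    refine ⟨m', f i ≫ a, fun j hj => ?_⟩
    rcases Finset.mem_insert.1 hj with rfl | hj
    · exact ⟨a, rfl⟩
    · obtain ⟨h, hh⟩ := hg j hj
      exact ⟨h ≫ b, by rw [reassoc_of% hh, hab]⟩

variable {X : Scheme.{u}} [CompactSpace X] [QuasiSeparatedSpace X]

omit [QuasiSeparatedSpace X] in
/-- A finite affine cover. -/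
theorem exists_cover : ∃ (n : Finset X) (U : X → X.Opens), (∀ a, IsAffineOpen (U a)) ∧
    ∀ x : X, ∃ a : n, x ∈ U a.1 := by
  choose U hU hxU _ using fun x : X => exists_isAffineOpen_mem_and_subset (x := x) (U := ⊤) trivial
  obtain ⟨n, hn⟩ := isCompact_univ.elim_finite_subcover (fun x => (U x : Set X))
    (fun x => (U x).isOpen) fun x _ => Set.mem_iUnion.2 ⟨x, hxU x⟩
  refine ⟨n, U, hU, fun x => ?_⟩
  obtain ⟨y, hy, hx⟩ := Set.mem_iUnion₂.1 (hn (Set.mem_univ x))
  exact ⟨⟨y, hy⟩, hx⟩

variable {J : Type u} [SmallCategory J] [IsFiltered J] {D : J ⥤ X.Modules} (c : Cocone D) (hc : IsColimit c)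
  (hD : ∀ k, Coh.IsQCoh (D.obj k)) (hP : Coh.IsQCoh c.pt)

include hc hD hP

omit [QuasiSeparatedSpace X] in
/-- A map from a module of finite type vanishing in the colimit vanishes at a stage. -/
theorem exists_comp_eq_zero {F : X.Modules} (hF : Coh.IsQCoh F) (hft : CohB1.IsFT F) {k : J} (g : F ⟶ D.obj k)
    (hg : g ≫ c.ι.app k = 0) : ∃ (l : J) (f : k ⟶ l), g ≫ D.map f = 0 := by
  classical
  obtain ⟨n, U, hU, hcov⟩ := exists_cover (X := X)
  have hgen : ∀ a : n, ∃ S : Finset Γ(F, U a.1), Submodule.span Γ(X, U a.1) (S : Set Γ(F, U a.1)) = ⊤ :=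
    fun a => (finite_of_isFT hF hft (hU a.1)).fg_top
  choose S hS using hgen
  have hz : ∀ p : Σ a : n, ↥(S a), ∃ (l : J) (f : k ⟶ l), (D.map f).app (U p.1.1) (g.app (U p.1.1) p.2.1) = 0 :=
    fun p => exists_zero c hc hD hP (hU p.1.1) _
      (congrArg (fun q : F ⟶ c.pt => q.app (U p.1.1) p.2.1) hg)
  choose l f hf using hz
  obtain ⟨m, h, hh⟩ := exists_merge Finset.univ l f
  refine ⟨m, h, hom_eq_zero_of_cover hF _ (fun a : n => U a.1) (fun a => hU a.1) hcov fun a z => ?_⟩
  have hmem : z ∈ Submodule.span Γ(X, U a.1) (S a : Set Γ(F, U a.1)) := hS a ▸ Submodule.mem_top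
  induction hmem using Submodule.span_induction with
  | zero => exact map_zero _
  | add v v' _ _ hv hv' => rw [map_add, hv, hv', add_zero]
  | smul r v _ hv => rw [Scheme.Modules.Hom.app_smul, hv, smul_zero]
  | mem v hv =>
    obtain ⟨e, he⟩ := hh ⟨a, v, hv⟩ (Finset.mem_univ _)
    rw [← he, Functor.map_comp]
    show (D.map e).app (U a.1) ((D.map (f ⟨a, v, hv⟩)).app (U a.1) (g.app (U a.1) v)) = 0
    rw [hf ⟨a, v, hv⟩, map_zero]

/-- A map from a module of finite presentation to the colimit comes from a stage. -/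
theorem exists_factor {F : X.Modules} (hF : Coh.IsQCoh F) (hfp : CohB1.IsFP F) (f : F ⟶ c.pt) :
    ∃ (k : J) (g : F ⟶ D.obj k), g ≫ c.ι.app k = f := by
  classical
  obtain ⟨n, U, hU, hcov⟩ := exists_cover (X := X)
  have hgen : ∀ a : n, ∃ S : Finset Γ(F, U a.1), Submodule.span Γ(X, U a.1) (S : Set Γ(F, U a.1)) = ⊤ :=
    fun a => by
      haveI := finitePresentation_of_isFP hfp (hU a.1)
      exact Module.Finite.fg_top
  choose S hS using hgen
  have hrep : ∀ p : Σ a : n, ↥(S a), ∃ (k : J) (x : Γ(D.obj k, U p.1.1)),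
      (c.ι.app k).app (U p.1.1) x = f.app (U p.1.1) p.2.1 :=
    fun p => exists_rep c hc hD hP (hU p.1.1) _
  choose k₀ x hx using hrep
  obtain ⟨k, hk⟩ := IsFiltered.sup_objs_exists (Finset.univ.image k₀)
  have hto : ∀ p, Nonempty (k₀ p ⟶ k) := fun p => hk (Finset.mem_image_of_mem _ (Finset.mem_univ p))
  let B := F ⊞ D.obj k
  have hB : Coh.IsQCoh B := RGLib.SqZeroHom.isQCoh_biprod hF (hD k)
  let φ : B ⟶ c.pt := biprod.desc f (-c.ι.app k)
  let g₀ : B ⟶ Abelian.image φ := Abelian.factorThruImage φ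
  let K := kernel g₀
  have hI : Coh.IsQCoh (Abelian.image φ) := isQCoh_kernel hP (isQCoh_cokernel hB hP φ) _
  have hK : Coh.IsQCoh K := isQCoh_kernel hB hI g₀
  have hlift : ∀ p : Σ a : n, ↥(S a), ∃ z : Γ(K, U p.1.1),
      (kernel.ι g₀ ≫ biprod.fst).app (U p.1.1) z = p.2.1 := fun p => by
    let y : Γ(B, U p.1.1) := (biprod.inl : F ⟶ B).app _ p.2.1 +
      (biprod.inr : D.obj k ⟶ B).app _ ((D.map (hto p).some).app _ (x p))
    have h1 : φ.app _ y = 0 := by
      rw [map_add]
      show ((biprod.inl : F ⟶ B) ≫ φ).app _ p.2.1 + ((D.map (hto p).some ≫ (biprod.inr : D.obj k ⟶ B)) ≫ φ).app _ (x p) = 0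
      rw [Category.assoc, biprod.inl_desc, biprod.inr_desc, Preadditive.comp_neg, c.w, ← hx p]
      exact add_neg_cancel _
    have h2 : g₀.app _ y = 0 := by
      refine app_injective (Abelian.image.ι φ) (U p.1.1) ?_
      rw [map_zero]
      exact ((congrArg (fun q : B ⟶ c.pt => q.app (U p.1.1) y) (Abelian.image.fac φ)).trans h1)
    obtain ⟨z, hz⟩ := exists_app_f_eq (S := ShortComplex.mk (kernel.ι g₀) g₀ (kernel.condition g₀))
      { exact := ShortComplex.exact_kernel g₀, mono_f := inferInstance, epi_g := inferInstance } (U p.1.1) y h2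
    refine ⟨z, ?_⟩
    show (biprod.fst : B ⟶ F).app _ ((kernel.ι g₀).app _ z) = _
    rw [hz, map_add]
    show ((biprod.inl : F ⟶ B) ≫ biprod.fst).app _ p.2.1 + ((biprod.inr : D.obj k ⟶ B) ≫ biprod.fst).app _ _ = p.2.1
    rw [biprod.inl_fst, biprod.inr_fst]
    exact add_zero _
  choose z hz using hlift
  obtain ⟨N, hN, hmem⟩ := exists_ftOn_family hK (fun a : ULift.{u} n => U a.down.1) (fun a => hU a.down.1)
    (fun a => Set.range fun v : ↥(S a.down) => z ⟨a.down, v⟩) (fun a => Set.finite_range _)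
  have hNq : Coh.IsQCoh N.toModules := isQCoh_of_ftOn hK hN
  let q : N.toModules ⟶ B := N.ι ≫ kernel.ι g₀
  let π : N.toModules ⟶ F := q ≫ biprod.fst
  haveI : Epi π := by
    refine RGLib.FPCover.epi_of_surjective_cover hNq hF π (fun a : ULift.{u} n => U a.down.1) (fun a => hU a.down.1)
      (fun y => let ⟨a, ha⟩ := hcov y; ⟨⟨a⟩, ha⟩) fun a => ?_
    have hr : ⊤ ≤ LinearMap.range (QCoh.appLin π (U a.down.1)) := by
      rw [← hS a.down, Submodule.span_le]
      intro v hv
      obtain ⟨w, hw⟩ := N.exists_app_eq (hmem a ⟨⟨v, hv⟩, rfl⟩)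
      refine ⟨w, ?_⟩
      show (kernel.ι g₀ ≫ biprod.fst).app _ (N.ι.app (U a.down.1) w) = v
      rw [hw]
      exact hz ⟨a.down, v, hv⟩
    exact fun y => hr (Submodule.mem_top (x := y))
  have hqφ : q ≫ φ = 0 := by
    rw [show φ = g₀ ≫ Abelian.image.ι φ from (Abelian.image.fac φ).symm, Category.assoc, kernel.condition_assoc,
      zero_comp, comp_zero]
  have hmain : π ≫ f = (q ≫ biprod.snd) ≫ c.ι.app k := by
    let ιk : D.obj k ⟶ c.pt := c.ι.app k
    have h : q ≫ φ = π ≫ f - (q ≫ biprod.snd) ≫ ιk := by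
      simp only [φ, π, biprod.desc_eq, Preadditive.comp_add, Category.assoc, sub_eq_add_neg]
      rw [show (-c.ι.app k : D.obj k ⟶ c.pt) = -ιk from rfl, Preadditive.comp_neg, Preadditive.comp_neg]
    rw [hqφ] at h
    exact sub_eq_zero.1 h.symm
  let R := kernel π
  have hR : Coh.IsQCoh R := isQCoh_kernel hNq hF π
  have hRft : CohB1.IsFT R := isFT_kernel_of_epi π hNq hF (isFT_of_ftOn hK hN) hfp
  obtain ⟨l, e, he⟩ := exists_comp_eq_zero c hc hD hP hR hRft (kernel.ι π ≫ q ≫ biprod.snd) (by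
    rw [Category.assoc, ← hmain, kernel.condition_assoc, zero_comp])
  let b : F ⟶ D.obj l := (ShortComplex.exact_kernel π).desc ((q ≫ biprod.snd) ≫ D.map e)
    (by simpa [Category.assoc] using he)
  have hb : π ≫ b = (q ≫ biprod.snd) ≫ D.map e := (ShortComplex.exact_kernel π).g_desc _ _
  refine ⟨l, b, ?_⟩
  rw [← cancel_epi π, reassoc_of% hb, c.w, hmain]
  simp only [q, Category.assoc]

omit hc hD hP

omit [CompactSpace X] [QuasiSeparatedSpace X] in
/-- A colimit in quasi-coherent modules is a colimit among all modules. -/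
theorem nonempty_isColimit_ι (D : J ⥤ QCohCat.QCoh X) (c : Cocone D) (hc : IsColimit c) :
    Nonempty (IsColimit ((QCohCat.isQCoh X).ι.mapCocone c)) := by
  let D' := D ⋙ (QCohCat.isQCoh X).ι
  have hq : Coh.IsQCoh (colimit D') := isQCoh_colimit D' fun k => (D.obj k).property
  let cQ : Cocone D :=
    { pt := ⟨colimit D', hq⟩
      ι := { app := fun k => ObjectProperty.homMk (colimit.ι D' k)
             naturality := fun i j f => ObjectProperty.hom_ext _ ((colimit.w D' f).trans (Category.comp_id _).symm) } }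
  have h0 : IsColimit ((QCohCat.isQCoh X).ι.mapCocone cQ) :=
    IsColimit.ofIsoColimit (colimit.isColimit D') (Cocone.ext (Iso.refl _) fun k => Category.comp_id _)
  have hQ : IsColimit cQ := isColimitOfReflects (QCohCat.isQCoh X).ι h0
  exact ⟨IsColimit.ofIsoColimit h0 ((Cocone.functoriality D (QCohCat.isQCoh X).ι).mapIso (hQ.uniqueUpToIso hc))⟩

theorem isFinitelyPresentable_iff (F : QCohCat.QCoh X) :
    IsFinitelyPresentable.{u} F ↔ CohB1.IsFP F.obj := by
  refine ⟨fun h => ?_, fun h => ?_⟩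
  · obtain ⟨I, _, _, D, c, hc, hfp, hpt⟩ := RGLib.FPColimit.exists_fp_colimit X F.obj F.property
    have hq : ∀ i, Coh.IsQCoh (D.obj i) := fun i => by
      haveI := hfp i
      exact (inferInstance : SheafOfModules.IsQuasicoherent (R := X.ringCatSheaf) (D.obj i))
    let D₁ : I ⥤ QCohCat.QCoh X := (QCohCat.isQCoh X).lift D hq
    let c₁ : Cocone D₁ :=
      { pt := ⟨c.pt, hpt.symm ▸ F.property⟩
        ι := { app := fun i => ObjectProperty.homMk (c.ι.app i)
               naturality := fun i j f => ObjectProperty.hom_ext _ (c.ι.naturality f) } }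
    have hc₁ : IsColimit c₁ := isColimitOfReflects (QCohCat.isQCoh X).ι
      (IsColimit.ofIsoColimit hc (Cocone.ext (Iso.refl _) fun i => Category.comp_id _))
    obtain ⟨i, s, hs⟩ := IsFinitelyPresentable.exists_hom_of_isColimit hc₁
      (ObjectProperty.homMk (eqToHom hpt.symm) : F ⟶ c₁.pt)
    let s' : F.obj ⟶ D.obj i := s.hom
    let r : D.obj i ⟶ F.obj := c.ι.app i ≫ eqToHom hpt
    have hsr : s' ≫ r = 𝟙 F.obj := by
      have h1 : s' ≫ c.ι.app i = eqToHom hpt.symm := congrArg (fun g => g.hom) hs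
      simp only [r, reassoc_of% h1, eqToHom_trans, eqToHom_refl]
    let m : D.obj i ⟶ D.obj i := 𝟙 _ - r ≫ s'
    have hmr : m ≫ r = 0 := by
      rw [Preadditive.sub_comp, Category.id_comp, Category.assoc, hsr, Category.comp_id, sub_self]
    let e : cokernel m ≅ F.obj :=
      { hom := cokernel.desc m r hmr
        inv := s' ≫ cokernel.π m
        hom_inv_id := by
          apply coequalizer.hom_ext
          rw [cokernel.π_desc_assoc, Category.comp_id]
          have h2 := cokernel.condition m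
          rw [Preadditive.sub_comp, Category.id_comp, Category.assoc, sub_eq_zero] at h2
          exact h2.symm
        inv_hom_id := by rw [Category.assoc, cokernel.π_desc, hsr] }
    exact RGLib.FPExtend.isFP_of_iso e (isFP_cokernel m (hq i) (isFT_of_isFP (hfp i)) (hq i) (hfp i))
  · refine isFinitelyPresentable_iff_preservesFilteredColimits.2 ⟨fun J _ _ => ⟨fun {D} => ⟨fun {c} hc => ?_⟩⟩⟩
    obtain ⟨hc'⟩ := nonempty_isColimit_ι D c hc
    refine ⟨Types.FilteredColimit.isColimitOf' _ _ (fun g => ?_) fun k a b hab => ?_⟩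
    · obtain ⟨k, g', hg'⟩ := exists_factor ((QCohCat.isQCoh X).ι.mapCocone c) hc' (fun k => (D.obj k).property)
        c.pt.property F.property h (show F ⟶ c.pt from g).hom
      exact ⟨k, ObjectProperty.homMk g', (ObjectProperty.hom_ext _ hg').symm⟩
    · have h1 : ((show F ⟶ D.obj k from a).hom - (show F ⟶ D.obj k from b).hom) ≫ (c.ι.app k).hom = 0 := by
        rw [Preadditive.sub_comp, sub_eq_zero]
        exact congrArg (fun g : F ⟶ c.pt => g.hom) hab
      obtain ⟨l, e, he⟩ := exists_comp_eq_zero ((QCohCat.isQCoh X).ι.mapCocone c) hc' (fun k => (D.obj k).property)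
        c.pt.property F.property (isFT_of_isFP h) _ h1
      rw [Preadditive.sub_comp, sub_eq_zero] at he
      exact ⟨l, e, ObjectProperty.hom_ext _ he⟩

end Groth.Agent.QCohCompact
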